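import Mathlib
import Cfsg.Agent.Lib.O73Cl.Data
import Cfsg.Agent.Lib.KnownSimple.LabKit

/-!
# Data for the centralizer of the element of the split class
-/

set_option autoImplicit false
set_option maxRecDepth 100000
set_option maxHeartbeats 0

namespace Cfsg.Agent.Lib.O73Cl

open Cfsg.Agent.Lib.KnownSimple.Lab

/-- The element. -/
def X0 : ℕ := tl 0
/-- Its square. -/
def X2 : ℕ := mm X0 X0

/-- The base vectors. -/
def V1 : ℕ := 81
/-- The base vectors. -/
def V2 : ℕ := 243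
/-- The base vectors. -/
def V3 : ℕ := 27

/-- The generators. -/
def GL1 : List ℕ := [158458742917061955551399903234, 25397793657696230096937257537, 20465074082212513506740749697, 86695999551925831215981592705]
/-- The generators. -/
def GL2 : List ℕ := [3094925674533492516706123777, 118843452715672155438173978625]
/-- The generators. -/
def GL3 : List ℕ := [79848417036037393827472932865]

/-- The orbit trees. -/
def OT1 : List (ℕ × ℕ × ℕ) := [(81, 0, 0), (162, 0, 0), (1352, 0, 1), (358, 0, 2), (1053, 0, 3), (1891, 1, 1), (707, 1, 2), (2106, 1, 3), (1810, 2, 1), (90, 2, 2), (867, 2, 3), (629, 3, 2), (2055, 3, 3), (2065, 4, 1), (1067, 4, 2), (2025, 4, 3), (1433, 5, 1), (180, 5, 2), (1653, 5, 3), (436, 6, 2), (1194, 6, 3), (1214, 7, 1), (2131, 7, 2), (1134, 7, 3), (644, 8, 2), (1329, 8, 3), (1831, 9, 2), (1068, 9, 3), (1072, 10, 1), (161, 10, 2), (385, 10, 3), (135, 11, 3), (151, 12, 1), (2066, 12, 2), (1568, 12, 3), (606, 13, 2), (852, 13, 3),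 (578, 14, 3), (591, 15, 1), (1854, 15, 2), (448, 16, 2), (1920, 16, 3), (1448, 17, 2), (2127, 17, 3), (2117, 18, 1), (202, 18, 2), (680, 18, 3), (189, 19, 3), (212, 20, 1), (1213, 20, 2), (946, 20, 3), (483, 21, 2), (1695, 21, 3), (424, 22, 3), (417, 23, 1), (1413, 23, 2), (819, 24, 2), (153, 24, 3), (142, 25, 1), (2054, 25, 2), (842, 25, 3), (1344, 26, 3), (1327, 27, 1), (332, 27, 2), (2037, 27, 3), (1340, 28, 1), (1318, 28, 3), (1606, 29, 2), (399, 29, 3), (133, 30, 2), (1066, 31, 1), (152, 31, 2), (1840, 31, 3), (1073, 32, 1), (876, 32, 2), (1124, 32, 3), (2077, 33, 2), (124, 33, 3), (134, 34, 1), (1304, 34, 2), (125, 35, 3), (126, 36, 1), (2049, 36, 2), (1091, 36, 3), (1847, 37, 2), (1556, 37, 3), (1308, 38, 1), (393, 38, 2), (828, 38, 3), (1578, 39, 2), (1375, 39, 3), (1638, 40, 2), (198, 40, 3), (194, 41, 1), (1189, 41, 2), (1681, 41, 3), (1932, 42, 3), (1925, 43, 1), (652, 43, 2), (1158, 43, 3), (1939, 44, 1), (1880, 44, 3), (944, 45, 2),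 (690, 45, 3), (230, 46, 2), (2132, 47, 1), (211, 47, 2), (1412, 47, 3), (2116, 48, 1), (1671, 48, 2), (2155, 48, 3), (1202, 49, 2), (239, 49, 3), (229, 50, 1), (1867, 50, 2), (238, 51, 3), (225, 52, 1), (1146, 52, 2), (2179, 52, 3), (1423, 53, 2), (913, 53, 3), (1887, 54, 1), (696, 54, 2), (1629, 54, 3), (969, 55, 2), (1904, 55, 3), (1797, 56, 3), (1801, 57, 1), (884, 57, 2), (1861, 57, 3), (1790, 58, 1), (1617, 58, 2), (1109, 58, 3), (601, 59, 2), (115, 59, 3), (1319, 60, 2), (874, 61, 1), (605, 61, 2), (860, 61, 3), (1332, 62, 2), (108, 62, 3), (2033, 63, 3), (1116, 64, 2), (1576, 65, 3), (2035, 66, 1), (835, 66, 3), (392, 67, 3), (1587, 68, 2), (2098, 68, 3), (577, 69, 2), (1833, 69, 3), (2078, 70, 1), (1306, 70, 3), (160, 71, 2), (397, 72, 1), (337, 73, 2), (590, 73, 3), (1607, 74, 2), (391, 74, 3), (398, 75, 1), (1365, 75, 3), (861, 76, 3), (841, 77, 1), (1818, 77, 3), (851, 78, 1), (2048, 78, 2), (1105, 78, 3), (386, 79, 2), (89, 79, 3),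 (1586, 80, 1), (575, 80, 2), (1090, 80, 3), (1569, 81, 1), (1296, 81, 2), (371, 81, 3), (378, 82, 2), (99, 82, 3), (88, 83, 1), (2088, 84, 3), (351, 85, 2), (1110, 86, 2), (1548, 86, 3), (2095, 87, 3), (2099, 88, 1), (1803, 88, 3), (1826, 89, 3), (1616, 90, 3), (1398, 91, 3), (1388, 92, 1), (1657, 92, 2), (1418, 92, 3), (1381, 93, 1), (930, 93, 2), (2134, 93, 3), (464, 94, 2), (221, 94, 3), (1879, 95, 2), (1667, 96, 1), (478, 96, 2), (1690, 96, 3), (1935, 97, 2), (216, 97, 3), (1138, 98, 3), (2151, 99, 2), (965, 100, 3), (1154, 101, 1), (1634, 101, 3), (700, 102, 3), (960, 103, 2), (1172, 103, 3), (425, 104, 2), (1443, 104, 3), (1201, 105, 1), (1883, 105, 3), (203, 106, 2), (686, 107, 1), (674, 108, 2), (421, 108, 3), (943, 109, 2), (701, 109, 3), (685, 110, 1), (1911, 110, 3), (1686, 111, 3), (1682, 112, 1), (1449, 112, 3), (1699, 113, 1), (1150, 113, 2), (2174, 113, 3), (679, 114, 2), (166, 114, 3), (955, 115, 1), (409, 115, 2), (2180, 115,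 3), (951, 116, 1), (1863, 116, 2), (712, 116, 3), (675, 117, 2), (171, 117, 3), (167, 118, 1), (1179, 119, 3), (702, 120, 2), (2139, 121, 2), (909, 121, 3), (1184, 122, 3), (1171, 123, 1), (1392, 123, 3), (1453, 124, 3), (934, 125, 3), (1339, 126, 1), (338, 126, 2), (579, 126, 3), (1343, 127, 1), (2047, 127, 3), (1615, 128, 2), (1131, 128, 3), (1108, 129, 1), (859, 129, 2), (1795, 130, 2), (875, 131, 2), (1129, 131, 3), (1577, 132, 2), (1353, 132, 3), (2032, 134, 2), (1812, 134, 3), (107, 135, 3), (1061, 136, 1), (885, 136, 2), (2053, 137, 2), (850, 137, 3), (359, 140, 3), (818, 141, 3), (117, 142, 2), (631, 142, 3), (1092, 143, 3), (574, 144, 1), (1555, 144, 3), (633, 145, 1), (1320, 147, 2), (1832, 147, 3), (1565, 148, 2), (97, 149, 3), (589, 152, 1), (826, 152, 3), (1130, 153, 3), (1123, 154, 1), (1376, 154, 3), (1782, 155, 2), (1848, 157, 3), (1364, 158, 3), (1841, 159, 1), (645, 159, 3), (1106, 161, 3), (1585, 162, 1), (628, 163, 2), (1825,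 164, 3), (836, 165, 3), (810, 166, 1), (618, 166, 3), (621, 167, 3), (1098, 168, 2), (2036, 169, 2), (370, 169, 3), (1547, 170, 3), (2084, 171, 2), (1811, 172, 3), (1539, 173, 3), (1342, 174, 3), (2083, 175, 3), (2096, 176, 1), (1074, 176, 3), (2100, 177, 1), (331, 177, 3), (602, 179, 3), (632, 181, 1), (339, 181, 3), (366, 182, 1), (1368, 185, 2), (604, 185, 3), (1597, 186, 2), (1940, 187, 1), (673, 187, 2), (429, 187, 3), (1927, 188, 1), (1151, 188, 3), (935, 189, 2), (2145, 189, 3), (2135, 190, 1), (1691, 190, 2), (1403, 191, 2), (1666, 192, 2), (2150, 192, 3), (964, 193, 2), (1896, 193, 3), (1139, 195, 2), (1437, 195, 3), (175, 196, 3), (2110, 197, 1), (1662, 197, 2), (1190, 198, 2), (1700, 198, 3), (706, 201, 3), (1624, 202, 3), (234, 203, 2), (452, 203, 3), (2184, 204, 3), (410, 205, 1), (914, 205, 3), (456, 206, 1), (1875, 208, 2), (1447, 208, 3), (904, 209, 2), (185, 210, 3), (422, 213, 1), (1643, 213, 3), (2149, 214, 3), (2156, 215, 1),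 (1903, 215, 3), (1377, 216, 2), (1428, 218, 3), (1915, 219, 3), (1411, 220, 1), (444, 220, 3), (2173, 222, 3), (956, 223, 1), (437, 224, 2), (1454, 225, 3), (1633, 226, 3), (1620, 227, 1), (471, 227, 3), (432, 228, 3), (2169, 229, 2), (1153, 230, 2), (713, 230, 3), (895, 231, 3), (1168, 232, 2), (1432, 233, 3), (891, 234, 3), (1928, 235, 3), (1169, 236, 3), (1183, 237, 1), (2121, 237, 3), (1176, 238, 1), (653, 238, 3), (463, 240, 3), (451, 242, 1), (669, 242, 3), (723, 243, 1), (1899, 246, 2), (479, 246, 3), (926, 247, 2), (594, 248, 2), (1846, 252, 2), (1564, 252, 3), (643, 254, 3), (372, 256, 3), (364, 260, 3), (1546, 262, 3), (1363, 263, 2), (1802, 264, 3), (1789, 265, 2), (866, 266, 2), (843, 267, 3), (1303, 268, 2), (817, 269, 1), (1086, 270, 2), (365, 271, 3), (98, 272, 2), (1557, 277, 3), (616, 278, 3), (1085, 280, 2), (106, 281, 3), (567, 286, 3), (2085, 289, 3), (1351, 295, 1), (344, 295, 3), (865, 297, 1), (827, 300, 3), (2070, 301,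 3), (1599, 303, 3), (324, 305, 3), (1598, 306, 1), (143, 307, 3), (1084, 308, 1), (1608, 308, 3), (883, 310, 3), (617, 311, 1), (144, 313, 3), (459, 319, 2), (1424, 323, 2), (905, 323, 3), (449, 325, 3), (717, 327, 3), (728, 331, 3), (896, 333, 3), (1916, 334, 2), (1387, 335, 3), (1382, 336, 2), (1648, 337, 2), (1677, 338, 3), (1868, 339, 2), (1625, 340, 1), (2163, 341, 2), (727, 342, 3), (184, 343, 2), (900, 348, 3), (476, 349, 3), (2167, 351, 2), (176, 352, 3), (405, 357, 3), (1164, 360, 3), (1892, 366, 1), (658, 366, 3), (1649, 368, 1), (1642, 371, 3), (1197, 372, 3), (921, 374, 3), (648, 376, 3), (925, 377, 1), (193, 378, 3), (2168, 379, 1), (939, 379, 3), (1658, 381, 3), (475, 382, 1), (207, 384, 3), (116, 390, 3), (1567, 391, 2), (2067, 395, 3), (343, 398, 2), (1060, 403, 3), (1328, 404, 3), (1796, 406, 3), (345, 407, 3), (1842, 411, 2), (1862, 424, 3), (220, 427, 3), (947, 428, 2), (1209, 432, 3), (659, 435, 2), (2111, 440, 3), (1924, 441,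 3), (1402, 443, 3), (663, 444, 3), (1407, 448, 2), (1417, 461, 3), (1307, 464, 2), (1882, 474, 2)]
/-- The orbit trees. -/
def OT2 : List (ℕ × ℕ × ℕ) := [(243, 0, 0), (72, 0, 0), (1773, 0, 1), (1989, 1, 0), (63, 1, 1), (1944, 2, 0), (1017, 2, 1), (540, 3, 1), (513, 4, 0), (54, 4, 1), (27, 5, 0), (270, 6, 0), (1287, 7, 0), (1215, 7, 1), (1701, 8, 0), (1251, 9, 0), (36, 10, 1), (1737, 11, 0), (2007, 12, 0), (45, 13, 0), (1035, 14, 1), (972, 15, 0), (486, 18, 1), (297, 19, 0)]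
/-- The orbit trees. -/
def OT3 : List (ℕ × ℕ × ℕ) := [(27, 0, 0), (270, 0, 0), (513, 1, 0)]

/-- The matrix of the images of the base vectors. -/
def PC : ℕ := 9903898105137400343255711780
/-- Its inverse. -/
def PI : ℕ := 309598936935262298394689796
/-- The matrix of the form. -/
def SC : ℕ := 1237958929057556803023273986
/-- The reflecting matrix. -/
def HC : ℕ := 79229371476977721849409568769
/-- The negative of the identity. -/
def NEG : ℕ := 158458742917061955551399903234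

/-- The test of a tree. -/
def chkTree (v : ℕ) (L : List ℕ) (T : List (ℕ × ℕ × ℕ)) : Bool :=
  (T.getD 0 (0, 0, 0)).1 == v &&
  (List.range T.length).all fun i =>
    Nat.beq i 0 || (Nat.blt (T.getD i (0, 0, 0)).2.1 i && Nat.blt (T.getD i (0, 0, 0)).2.2 L.length &&
      Nat.beq (ac (L.getD (T.getD i (0, 0, 0)).2.2 0) (T.getD (T.getD i (0, 0, 0)).2.1 (0, 0, 0)).1) (T.getD i (0, 0, 0)).1)

/-- The signature of a vector relative to fixed vectors. -/
def sigEq (pins : List ℕ) (w v : ℕ) : Bool :=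
  Nat.beq (qf w) (qf v) && Nat.beq (bf w (ac X0 w)) (bf v (ac X0 v)) && Nat.beq (bf w (ac X2 w)) (bf v (ac X2 v)) &&
    pins.all (fun p => Nat.beq (bf w p) (bf v p) && Nat.beq (bf w (ac X0 p)) (bf v (ac X0 p)) &&
      Nat.beq (bf w (ac X2 p)) (bf v (ac X2 p))) &&
    (Nat.beq (ac X0 v) v || !(Nat.beq (ac X0 w) w))

/-- The test of a level. -/
def chkSig (pins : List ℕ) (v : ℕ) (T : List (ℕ × ℕ × ℕ)) (w : ℕ) : Bool :=
  !(sigEq pins w v) || (T.map Prod.fst).contains w

theorem c_T1 : chkTree V1 GL1 OT1 = true := by decide +kernel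
theorem c_T2 : chkTree V2 GL2 OT2 = true := by decide +kernel
theorem c_T3 : chkTree V3 GL3 OT3 = true := by decide +kernel
theorem c_S1 : allI (chkSig [] V1 OT1) 0 2187 = true := by decide +kernel
theorem c_S2 : allI (chkSig [V1] V2 OT2) 0 2187 = true := by decide +kernel
theorem c_S3 : allI (chkSig [V1, V2] V3 OT3) 0 2187 = true := by decide +kernel
theorem c_G : ∀ A ∈ GL1 ++ GL2 ++ GL3, mm A X0 = mm X0 A := by decide +kernel
theorem c_G3 : ∀ A ∈ GL1 ++ GL2 ++ GL3, A = NEG ∨ mm A (mm A A) = ID := by decide +kernel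
theorem c_G2 : ∀ A ∈ GL2, ac A V1 = V1 := by decide +kernel
theorem c_G1 : ∀ A ∈ GL3, ac A V1 = V1 ∧ ac A V2 = V2 := by decide +kernel
theorem c_P : mm PC PI = ID := by decide +kernel
theorem c_Pcol : ac PC 1 = V1 ∧ ac PC 3 = ac X0 V1 ∧ ac PC 9 = ac X2 V1 ∧ ac PC 27 = V2 ∧ ac PC 81 = ac X0 V2 ∧
    ac PC 243 = V3 ∧ ac PC 729 = ac X0 V3 := by decide +kernel
theorem c_HC : mm HC HC = ID ∧ mm HC X0 = mm (tl 4) HC := by decide +kernel

end Cfsg.Agent.Lib.O73Cl
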